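import Mathlib.FieldTheory.PurelyInseparable.Basic
import Mathlib.FieldTheory.PrimitiveElement
import Mathlib.RingTheory.Polynomial.IsIntegral
import Mathlib.RingTheory.TensorProduct.Finite
import Mathlib.RingTheory.TensorProduct.Free
import Mathlib.LinearAlgebra.Dimension.Constructions
import Mathlib.FieldTheory.IntermediateField.Algebraic

/-! Linear disjointness of an extension in which the base is algebraically closed and a finite
extension, when their tensor product is reduced. -/

set_option autoImplicit false
universe u

open scoped TensorProduct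

namespace Groth.Agent.FBase64.RegExt

variable {k K k' L : Type u} [Field k] [Field K] [Field k'] [Field L] [Algebra k K] [Algebra k k']
  [Algebra k L] [Algebra K L] [IsScalarTower k K L]

/-- The minimal polynomial does not change over an extension in which the base is algebraically
closed. -/
theorem minpoly_eq_map (hcl : ∀ x : K, IsIntegral k x → x ∈ (algebraMap k K).range) {b : L}
    (hb : IsIntegral k b) : minpoly K b = (minpoly k b).map (algebraMap k K) := by
  have hbK : IsIntegral K b := hb.tower_top
  have hg := minpoly.monic hbK
  have hdvd := minpoly.dvd_map_of_isScalarTower k K b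
  have hl : minpoly K b ∈ Polynomial.lifts (algebraMap k K) := by
    rw [Polynomial.lifts_iff_coeff_lifts]
    exact fun i => hcl _ (Polynomial.isIntegral_coeff_of_dvd (minpoly k b) (minpoly K b) (minpoly.monic hb) hg hdvd i)
  obtain ⟨g, hg', -, hgm⟩ := Polynomial.lifts_and_degree_eq_and_monic hl hg
  have h0 : Polynomial.aeval b g = 0 := by
    rw [← Polynomial.aeval_map_algebraMap K, hg', minpoly.aeval]
  refine (Polynomial.eq_of_monic_of_dvd_of_natDegree_le hg ((minpoly.monic hb).map _) hdvd ?_).symm
  rw [(minpoly.monic hb).natDegree_map, ← hg', hgm.natDegree_map]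
  exact Polynomial.natDegree_le_of_dvd (minpoly.dvd k b h0) hgm.ne_zero

/-- The multiplication map of a finite separable extension is injective. -/
theorem lift_injective_separable [FiniteDimensional k k'] [Algebra.IsSeparable k k']
    (hcl : ∀ x : K, IsIntegral k x → x ∈ (algebraMap k K).range) (φ : k' →ₐ[k] L) :
    Function.Injective (Algebra.TensorProduct.lift (Algebra.ofId K L) φ fun _ _ => .all _ _) := by
  let pb := Field.powerBasisOfFiniteOfSeparable k k'
  set Φ := Algebra.TensorProduct.lift (Algebra.ofId K L) φ fun _ _ => .all _ _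
  have hb : IsIntegral k (φ pb.gen) := pb.isIntegral_gen.map φ
  have hdeg : (minpoly K (φ pb.gen)).natDegree = pb.dim := by
    rw [minpoly_eq_map hcl hb, (minpoly.monic hb).natDegree_map, minpoly.algHom_eq φ φ.toRingHom.injective,
      pb.natDegree_minpoly]
  let B := Algebra.TensorProduct.basis K pb.basis
  have hv : LinearIndependent K fun i => Φ (B i) := by
    have h := (linearIndependent_pow (K := K) (φ pb.gen)).comp (Fin.cast hdeg.symm) (Fin.cast_injective _)
    convert h using 1
    funext i
    simp [B, Φ, PowerBasis.coe_basis]
  rw [injective_iff_map_eq_zero]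
  intro x hx
  have hsum : ∑ i, B.repr x i • Φ (B i) = 0 := by
    rw [← hx]
    conv_rhs => rw [← B.sum_repr x]
    rw [map_sum]; exact Finset.sum_congr rfl fun i _ => (map_smul _ _ _).symm
  rw [← B.sum_repr x, Finset.sum_eq_zero fun i _ => by rw [Fintype.linearIndependent_iff.mp hv _ hsum i, zero_smul]]

/-- Injectivity of the multiplication map passes along purely inseparable extensions when the
tensor product is reduced. -/
theorem lift_injective_insep {ks : Type u} [Field ks] [Algebra k ks] [Algebra ks k'] [IsScalarTower k ks k']
    [IsPurelyInseparable ks k'] [IsReduced (K ⊗[k] k')] (φ : k' →ₐ[k] L)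
    (hinj : Function.Injective (Algebra.TensorProduct.lift (Algebra.ofId K L)
      (φ.comp (IsScalarTower.toAlgHom k ks k')) fun _ _ => .all _ _)) :
    Function.Injective (Algebra.TensorProduct.lift (Algebra.ofId K L) φ fun _ _ => .all _ _) := by
  set Φ := Algebra.TensorProduct.lift (Algebra.ofId K L) φ fun _ _ => .all _ _
  set ι : K ⊗[k] ks →ₐ[K] K ⊗[k] k' :=
    Algebra.TensorProduct.map (AlgHom.id K K) (IsScalarTower.toAlgHom k ks k')
  have hcomp : ∀ z, Φ (ι z) = Algebra.TensorProduct.lift (Algebra.ofId K L)
      (φ.comp (IsScalarTower.toAlgHom k ks k')) (fun _ _ => .all _ _) z := by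
    intro z
    induction z using TensorProduct.induction_on with
    | zero => simp
    | tmul a b => simp [Φ, ι]
    | add x y hx hy => simp [map_add, hx, hy]
  let q := ringExpChar k
  have : ExpChar ks q := expChar_of_injective_algebraMap (algebraMap k ks).injective q
  have : Nontrivial (K ⊗[k] k') := RingHom.domain_nontrivial Φ.toRingHom
  have : ExpChar (K ⊗[k] k') q := expChar_of_injective_algebraMap (algebraMap k (K ⊗[k] k')).injective q
  have hmem : ∀ x : K ⊗[k] k', ∃ (n : ℕ) (y : K ⊗[k] ks), ι y = x ^ q ^ n := by
    intro x
    induction x using TensorProduct.induction_on with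
    | zero => exact ⟨0, 0, by simp⟩
    | tmul a b =>
      obtain ⟨n, c, hc⟩ := IsPurelyInseparable.pow_mem (F := ks) (E := k') q b
      exact ⟨n, (a ^ q ^ n) ⊗ₜ c, by simp [ι, ← hc, Algebra.TensorProduct.tmul_pow]⟩
    | add x y hx hy =>
      obtain ⟨m, a, ha⟩ := hx
      obtain ⟨n, b, hb⟩ := hy
      refine ⟨m + n, a ^ q ^ n + b ^ q ^ m, ?_⟩
      rw [add_pow_expChar_pow, map_add, map_pow, map_pow, ha, hb, ← pow_mul, ← pow_mul, ← pow_add,
        ← pow_add, add_comm n m]
  rw [injective_iff_map_eq_zero]
  intro x hx
  obtain ⟨n, y, hy⟩ := hmem x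
  have hy0 : y = 0 := (injective_iff_map_eq_zero _).mp hinj y (by
    rw [← hcomp, hy, map_pow, hx, zero_pow]
    exact pow_ne_zero _ (expChar_pos k q).ne')
  rw [hy0, map_zero] at hy
  exact IsNilpotent.eq_zero ⟨q ^ n, hy.symm⟩

/-- The multiplication map of a finite extension with reduced tensor product is injective. -/
theorem lift_injective [FiniteDimensional k k'] [IsReduced (K ⊗[k] k')]
    (hcl : ∀ x : K, IsIntegral k x → x ∈ (algebraMap k K).range) (φ : k' →ₐ[k] L) :
    Function.Injective (Algebra.TensorProduct.lift (Algebra.ofId K L) φ fun _ _ => .all _ _) :=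
  lift_injective_insep (ks := separableClosure k k') φ (lift_injective_separable hcl _)

/-- The degree of a finite extension with reduced tensor product divides the degree of a common
extension. -/
theorem finrank_dvd [FiniteDimensional k k'] [IsReduced (K ⊗[k] k')]
    (hcl : ∀ x : K, IsIntegral k x → x ∈ (algebraMap k K).range) (φ : k' →ₐ[k] L) :
    Module.finrank k k' ∣ Module.finrank K L := by
  set Φ := Algebra.TensorProduct.lift (Algebra.ofId K L) φ fun _ _ => .all _ _
  let e := AlgEquiv.ofInjective Φ (lift_injective hcl φ)
  have : FiniteDimensional K Φ.range := e.toLinearEquiv.finiteDimensional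
  let F : IntermediateField K L := Φ.range.toIntermediateField'
    (isField_of_isIntegral_of_isField' (R := K) (Field.toIsField K))
  have h : Module.finrank K F = Module.finrank k k' := by
    rw [← Module.finrank_baseChange (R := K) (S := k) (M' := k'), e.toLinearEquiv.finrank_eq]
    rfl
  rw [← h, ← Module.finrank_mul_finrank K F L]
  exact dvd_mul_right _ _

end Groth.Agent.FBase64.RegExt
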