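import Groth.Agent.FBase64.RegExt.Linear
import Groth.Agent.CohFF96.Basic
import Mathlib.RingTheory.Flat.Basic

/-! The residue field at the generic point as an extension of the ring of global functions. -/

set_option autoImplicit false
set_option backward.isDefEq.respectTransparency.types false
universe u

open CategoryTheory CategoryTheory.Limits AlgebraicGeometry
open scoped TensorProduct

namespace Groth.Agent.FBase64.RegExt

variable {X : Scheme.{u}} [IsIntegral X]

theorem residue_bijective_genericPoint :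
    Function.Bijective (X.residue (genericPoint X)).hom :=
  ⟨RingHom.injective (RingHom.comp (X.residue (genericPoint X)).hom (RingHom.id X.functionField)),
    IsLocalRing.residue_surjective⟩

/-- On a normal integral scheme the global functions are integrally closed in the residue field
of the generic point. -/
theorem mem_range_evaluation (hn : ∀ y : X, IsIntegrallyClosed (X.presheaf.stalk y)) {x : X}
    (hx : x = genericPoint X) {w : X.residueField x} (hw : (X.Γevaluation x).hom.IsIntegralElem w) :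
    w ∈ (X.Γevaluation x).hom.range := by
  subst hx
  obtain ⟨z, rfl⟩ := residue_bijective_genericPoint.2 w
  have : Nonempty (⊤ : X.Opens) := ⟨⟨genericPoint X, trivial⟩⟩
  obtain ⟨p, hp, hpz⟩ := hw
  have hz : z ∈ (X.germToFunctionField ⊤).hom.range := by
    refine CohFF96.mem_range_of_isIntegralElem (fun y => ⟨inferInstance, hn y⟩) ⊤ z ⟨p, hp, ?_⟩
    refine residue_bijective_genericPoint.1 ?_
    rw [map_zero, ← hpz, Polynomial.hom_eval₂]
    rfl
  obtain ⟨a, rfl⟩ := hz
  exact ⟨a, rfl⟩

/-- The base change of the residue field at the generic point is reduced if that of the scheme is. -/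
theorem isReduced_tensor_residueField {x : X} (hx : x = genericPoint X) (E : Type u) [Field E]
    [Algebra Γ(X, ⊤) E] (hF : IsField Γ(X, ⊤))
    [AlgebraicGeometry.IsReduced (pullback X.toSpecΓ (Spec.map (CommRingCat.ofHom (algebraMap Γ(X, ⊤) E))))] :
    letI := (X.Γevaluation x).hom.toAlgebra
    _root_.IsReduced (X.residueField x ⊗[Γ(X, ⊤)] E) := by
  subst hx
  letI : Algebra Γ(X, ⊤) (X.residueField (genericPoint X)) := (X.Γevaluation (genericPoint X)).hom.toAlgebra
  obtain ⟨_, ⟨U, hU, rfl⟩, hxU, -⟩ :=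
    X.isBasis_affineOpens.exists_subset_of_mem_open (Set.mem_univ (genericPoint X)) isOpen_univ
  replace hU : IsAffineOpen U := hU
  let res : Γ(X, ⊤) →+* Γ(X, U) := (X.presheaf.map (homOfLE le_top).op).hom
  letI : Algebra Γ(X, ⊤) Γ(X, U) := res.toAlgebra
  let i := Spec.map (CommRingCat.ofHom (algebraMap Γ(X, ⊤) E))
  let j : pullback (Spec.map (CommRingCat.ofHom (algebraMap Γ(X, ⊤) Γ(X, U)))) i ⟶ pullback X.toSpecΓ i :=
    pullback.map _ _ _ _ hU.fromSpec (𝟙 _) (𝟙 _)
      (by rw [Category.comp_id, hU.fromSpec_toSpecΓ]; rfl) (by simp [i])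
  have : IsOpenImmersion j := inferInstanceAs (IsOpenImmersion (pullback.map _ _ _ _ _ _ _ _ _))
  have : AlgebraicGeometry.IsReduced (pullback X.toSpecΓ i) := ‹_›
  have : AlgebraicGeometry.IsReduced (Spec (CommRingCat.of (Γ(X, U) ⊗[Γ(X, ⊤)] E))) :=
    isReduced_of_isOpenImmersion ((pullbackSpecIso Γ(X, ⊤) Γ(X, U) E).inv ≫ j)
  have hA : _root_.IsReduced (Γ(X, U) ⊗[Γ(X, ⊤)] E) := (affine_isReduced_iff _).mp this
  have : Nonempty U := ⟨⟨_, hxU⟩⟩
  have := functionField_isFractionRing_of_isAffineOpen X U hU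
  let ev : Γ(X, U) →ₐ[Γ(X, ⊤)] X.residueField (genericPoint X) :=
    { (X.evaluation U (genericPoint X) hxU).hom with
      commutes' := fun r => by
        show (X.residue _).hom ((X.presheaf.germ U _ hxU).hom (res r)) = (X.residue _).hom _
        congr 1
        exact X.presheaf.germ_res_apply (homOfLE le_top) (genericPoint X) hxU r }
  let ψ := Algebra.TensorProduct.map ev (AlgHom.id Γ(X, ⊤) E)
  let := hF.toField
  have hev : Function.Injective ev := residue_bijective_genericPoint.1.comp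
    (X.germToFunctionField_injective U)
  have hψ : Function.Injective ψ := by
    refine Module.Flat.rTensor_preserves_injective_linearMap (M := E) ev.toLinearMap hev
  have hden : ∀ z : X.residueField (genericPoint X) ⊗[Γ(X, ⊤)] E, ∃ s : Γ(X, U), s ≠ 0 ∧
      ∃ y, (ev s ⊗ₜ[Γ(X, ⊤)] (1 : E)) * z = ψ y := by
    intro z
    induction z using TensorProduct.induction_on with
    | zero => exact ⟨1, one_ne_zero, 0, by simp⟩
    | tmul a b =>
      obtain ⟨a', rfl⟩ := residue_bijective_genericPoint.2 a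
      obtain ⟨n, s, hs, rfl⟩ := IsFractionRing.div_surjective (A := Γ(X, U)) a'
      have hs0 : s ≠ 0 := nonZeroDivisors.ne_zero hs
      refine ⟨s, hs0, n ⊗ₜ b, ?_⟩
      rw [Algebra.TensorProduct.tmul_mul_tmul, one_mul, Algebra.TensorProduct.map_tmul]
      congr 1
      show (X.residue _).hom (algebraMap Γ(X, U) X.functionField s) * _ = _
      rw [← map_mul, mul_div_cancel₀ _ ((map_ne_zero_iff _ (IsFractionRing.injective Γ(X, U) X.functionField)).mpr hs0)]
      rfl
    | add a b ha hb =>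
      obtain ⟨s, hs, y, hy⟩ := ha
      obtain ⟨t, ht, w, hw⟩ := hb
      refine ⟨s * t, mul_ne_zero hs ht, (t ⊗ₜ 1) * y + (s ⊗ₜ 1) * w, ?_⟩
      have key : ∀ c : Γ(X, U), ψ (c ⊗ₜ 1) = ev c ⊗ₜ 1 := fun c => by simp [ψ]
      have h2 : (ev (s * t)) ⊗ₜ[Γ(X, ⊤)] (1 : E) = (ev s ⊗ₜ 1) * (ev t ⊗ₜ 1) := by
        rw [Algebra.TensorProduct.tmul_mul_tmul, one_mul, map_mul]
      rw [map_add ψ, map_mul ψ (t ⊗ₜ 1) y, map_mul ψ (s ⊗ₜ 1) w, key t, key s, ← hy, ← hw, h2]
      ring
  refine ⟨fun z ⟨n, hz⟩ => ?_⟩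
  obtain ⟨s, hs, y, hy⟩ := hden z
  have hy0 : y = 0 := IsNilpotent.eq_zero ⟨n + 1, hψ (by
    rw [map_pow, map_zero, ← hy, mul_pow, pow_succ z, hz, zero_mul, mul_zero])⟩
  rw [hy0, map_zero] at hy
  have hu : IsUnit (ev s ⊗ₜ[Γ(X, ⊤)] (1 : E)) :=
    (isUnit_iff_ne_zero.mpr ((map_ne_zero_iff _ hev).mpr hs)).map Algebra.TensorProduct.includeLeftRingHom
  exact hu.mul_right_eq_zero.mp hy

end Groth.Agent.FBase64.RegExt
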